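import Cfsg.Agent.H302.Hen.Free

/-!
# S5175, T10: no field automorphisms
-/

set_option autoImplicit false
set_option linter.unusedSectionVars false
set_option linter.style.haveILetI false

namespace Cfsg.Agent.H302.Hen

open Cfsg Cfsg.FusionSystem Cfsg.Agent.H756.HM Cfsg.Agent.H802
open scoped commutatorElement

universe u

section
variable {Ω : Type*} [Group Ω] {S : Subgroup Ω} [Finite S] {F : FusionSystem S} {K : Type} [Field K] [Fintype K]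
  {V T : Subgroup Ω} {x : Ω} {c : Conf F K V T x}

/-- an involution outside `T₀` centralizes an element of `V` outside `Z` -/
theorem exists_cent (hS : IsPGroup 2 S) (d : Nrm c) (typ : fixS V c.E = ⊥ ∨ comS V c.E = V) {f : Ω} (hf : f ∈ T)
    (hf0 : f ∉ V ⊔ cj x V) (hf2 : f ^ 2 = 1) : ∃ v ∈ V, v ∉ cj x V ∧ f * v * f⁻¹ = v := by
  haveI := charP_two c
  obtain ⟨σ, a, b, e, ha, he, h, h1, h2⟩ := exists_sig hS d typ hf hf0 (by rw [hf2]; exact Subgroup.one_mem _)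
  obtain ⟨v0, hv0, hv1⟩ : ∃ v0 ∈ V, f * v0 * f⁻¹ * v0 ∉ cj x V := by
    by_contra hcon
    push Not at hcon
    have key : ∀ r, σ r * e = r := by
      intro r
      obtain ⟨v, hv, hvr⟩ := d.P_surj ![0, r]
      have h3 := (d.P_Z _ (V.mul_mem (conjV c hf hv) hv)).2 (hcon v hv)
      rw [d.P_mul _ (conjV c hf hv) _ hv] at h3
      have h4 : d.P (f * v * f⁻¹) 1 + d.P v 1 = 0 := h3
      rw [(h v hv).2] at h4
      have h5 : d.P v 1 = r := by rw [hvr]; simp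
      rw [h5] at h4
      exact CharTwo.add_eq_zero.1 h4
    have h3 : e = 1 := by
      have := key 1
      rwa [map_one, one_mul] at this
    obtain ⟨r, hr⟩ := h1
    apply hr
    have := key r
    rwa [h3, mul_one] at this
  refine ⟨f * v0 * f⁻¹ * v0, V.mul_mem (conjV c hf hv0) hv0, hv1, ?_⟩
  have h3 : f * (f * v0 * f⁻¹ * v0) * f⁻¹ = (f ^ 2 * v0 * (f ^ 2)⁻¹) * (f * v0 * f⁻¹) := by
    rw [pow_two]
    group
  rw [h3, hf2, one_mul, inv_one, mul_one]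
  exact V_comm c v0 hv0 _ (conjV c hf hv0)

theorem free_1V (hS : IsPGroup 2 S) (d : Nrm c)
    (typ : fixS V c.E = ⊥ ∨ (Nat.card (fixS V c.E) = Fintype.card K ∧ comS V c.E = V)) {f : Ω} (hf : f ∈ T)
    (hf0 : f ∉ V ⊔ cj x V) (hf2 : f ^ 2 = 1) {y : Ω} (hy : y ∈ V) (hy2 : f * y * f⁻¹ = y) :
    ∃ u ∈ V, y = f * u * f⁻¹ * u := by
  have typ' : fixS V c.E = ⊥ ∨ comS V c.E = V := typ.imp id And.right
  have hf2' : f ^ 2 ∈ V ⊔ cj x V := by rw [hf2]; exact Subgroup.one_mem _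
  have hyy : f * y * f⁻¹ * y = 1 := by
    rw [hy2, ← pow_two]
    exact c.el y hy
  obtain ⟨u, hu, hu1⟩ := free_ZV hS d typ' hf hf0 hf2' y hy (by rw [hyy]; exact Subgroup.one_mem _)
  have hfu : f * (f * u * f⁻¹ * u) * f⁻¹ = f * u * f⁻¹ * u := by
    have h3 : f * (f * u * f⁻¹ * u) * f⁻¹ = (f ^ 2 * u * (f ^ 2)⁻¹) * (f * u * f⁻¹) := by
      rw [pow_two]
      group
    rw [h3, hf2, one_mul, inv_one, mul_one]
    exact V_comm c u hu _ (conjV c hf hu)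
  set z := y * (f * u * f⁻¹ * u) with hz
  have hzf : f * z * f⁻¹ = z := by
    have h3 : f * z * f⁻¹ = (f * y * f⁻¹) * (f * (f * u * f⁻¹ * u) * f⁻¹) := by
      rw [hz]
      group
    rw [h3, hy2, hfu]
  obtain ⟨u2, hu2, hu3⟩ := free_1Z hS d typ hf hf0 hf2' z hu1 (by
    rw [hzf, ← pow_two, c.el z hu1.1]
    exact Subgroup.one_mem _)
  refine ⟨u * u2, V.mul_mem hu hu2.1, ?_⟩
  have h8 : f * (u * u2) * f⁻¹ * (u * u2) = (f * u * f⁻¹ * u) * (f * u2 * f⁻¹ * u2) := by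
    have h9 : f * (u * u2) * f⁻¹ * (u * u2) = (f * u * f⁻¹) * ((f * u2 * f⁻¹) * u) * u2 := by group
    rw [h9, V_comm c _ (conjV c hf hu2.1) u hu]
    group
  have h9 : y * (f * (u * u2) * f⁻¹ * (u * u2)) = 1 := by
    rw [h8, ← mul_assoc, ← hz]
    exact Subgroup.mem_bot.1 hu3
  have h10 := eq_inv_of_mul_eq_one_left h9
  have h11 : f * (u * u2) * f⁻¹ * (u * u2) ∈ V :=
    V.mul_mem (conjV c hf (V.mul_mem hu hu2.1)) (V.mul_mem hu hu2.1)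
  rwa [V_inv c _ h11] at h10

/-- an element of `E` commuting with `f` and moving `w` out of `Z` -/
theorem exists_e (hS : IsPGroup 2 S) (d : Nrm c) (typ : fixS V c.E = ⊥ ∨ comS V c.E = V) {f : Ω} (hf : f ∈ T)
    (hf0 : f ∉ V ⊔ cj x V) (hf2 : f ^ 2 = 1) {w : Ω} (hw : w ∈ V ⊓ cj x V) (hwD : w ∉ fixS V c.E)
    (hfw : f * w * f⁻¹ = w) :
    ∃ e : c.E, (∀ v : V, (((e : MulAut V) ⟨f * v * f⁻¹, conjV c hf v.2⟩ : V) : Ω) =
      f * (((e : MulAut V) v : V) : Ω) * f⁻¹) ∧ (((e : MulAut V) ⟨w, hw.1⟩ : V) : Ω) ∉ cj x V := by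
  haveI := charP_two c
  obtain ⟨v, hv, hvx, hfv⟩ := exists_cent hS d typ hf hf0 hf2
  have hw1 : d.P w 1 = 0 := (d.P_Z _ hw.1).2 hw.2
  have hw0 : d.P w 0 ≠ 0 := by
    intro h0
    apply hwD
    apply (d.P_ker _ hw.1).1
    ext i; fin_cases i
    · exact h0
    · exact hw1
  have hv1 : d.P v 1 ≠ 0 := fun h0 => hvx ((d.P_Z _ hv).1 h0)
  obtain ⟨M, hM1, hM2⟩ := exists_swap hw0 hw1 hv1
  obtain ⟨e', he'⟩ := conj_E c hf (d.ρ.symm M)
  have key : ∀ p ∈ V, ∀ r ∈ V, f * p * f⁻¹ = p → f * r * f⁻¹ = r → act M (d.P p) = d.P r →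
      act (d.ρ e') (d.P p) = d.P r := by
    intro p hp r hr hfp hfr hM
    have h1 := he' ⟨p, hp⟩ (conjV c hf hp)
    have h2 := d.P_E (d.ρ.symm M) ⟨f * p * f⁻¹, conjV c hf hp⟩
    rw [MulEquiv.apply_symm_apply, h1] at h2
    have h3 : d.P ((⟨f * p * f⁻¹, conjV c hf hp⟩ : V) : Ω) = d.P p := by
      show d.P (f * p * f⁻¹) = d.P p
      rw [hfp]
    rw [h3, hM] at h2
    -- h2 : P (f e'(p) f⁻¹) = P r
    have hep := ((e' : MulAut V) ⟨p, hp⟩).2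
    have h4 := (P_eq_iff d (conjV c hf hep) hr).1 h2
    have h5 := D_conj c (T.inv_mem hf) h4
    have h6 : f⁻¹ * ((f * (((e' : MulAut V) ⟨p, hp⟩ : V) : Ω) * f⁻¹)⁻¹ * r) * f⁻¹⁻¹ =
        ((((e' : MulAut V) ⟨p, hp⟩ : V) : Ω))⁻¹ * (f⁻¹ * r * f) := by group
    have h7 : f⁻¹ * r * f = r := by
      conv_lhs => rw [← hfr]
      group
    rw [h6, h7] at h5
    rw [← d.P_E e' ⟨p, hp⟩]
    exact (P_eq_iff d hep hr).2 h5
  have hρ : M = d.ρ e' :=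
    eq_of_agree hw0 hw1 hv1 (hM1.trans (key w hw.1 v hv hfw hfv hM1).symm)
      (hM2.trans (key v hv w hw.1 hfv hfw hM2).symm)
  have he : d.ρ.symm M = e' := by rw [hρ, MulEquiv.symm_apply_apply]
  refine ⟨e', fun v => ?_, ?_⟩
  · have := he' v (conjV c hf v.2)
    rw [he] at this
    exact this
  · intro h
    have h1 := (d.P_Z _ ((e' : MulAut V) ⟨w, hw.1⟩).2).2 h
    rw [d.P_E, ← hρ] at h1
    have h2 : act M (d.P w) 1 = 0 := h1
    rw [hM1] at h2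
    exact hv1 h2

/-- extension of an element of `E` commuting with `f`, fixing `f` -/
theorem exists_ext (hS : IsPGroup 2 S) (hF : F.IsSaturated 2) (d : Nrm c)
    (typ : fixS V c.E = ⊥ ∨ (Nat.card (fixS V c.E) = Fintype.card K ∧ comS V c.E = V)) {f : Ω} (hf : f ∈ T)
    (hf0 : f ∉ V ⊔ cj x V) (hf2 : f ^ 2 = 1) (e : c.E)
    (he : ∀ v : V, (((e : MulAut V) ⟨f * v * f⁻¹, conjV c hf v.2⟩ : V) : Ω) =
      f * (((e : MulAut V) v : V) : Ω) * f⁻¹) :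
    ∃ (R : Subgroup Ω) (χ : R →* Ω), χ ∈ F.Hom R ∧ V ≤ R ∧
      (∀ (v : Ω) (hv : v ∈ V) (hR : v ∈ R), χ ⟨v, hR⟩ = (((e : MulAut V) ⟨v, hv⟩ : V) : Ω)) ∧
      ∃ hR : f ∈ R, χ ⟨f, hR⟩ = f := by
  haveI : Fact (Nat.Prime 2) := ⟨Nat.prime_two⟩
  have hV := c.V_le
  have h1 : V.subtype.comp (e : MulAut V).toMonoidHom ∈ F.Hom V :=
    (mem_autGroup_iff F hV _).1 (c.E_le e.2)
  have hfinV : Finite V := finite_of_le hV
  have h2 : (V.subtype.comp (e : MulAut V).toMonoidHom).range = V :=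
    range_eq_of_mapsTo h1 (fun y => ((e : MulAut V) y).2)
  obtain ⟨ψ, hψ, hψe⟩ := (isReceptive_of_isFullyNormalized hS hF c.fn).2 V _ h1 h2
  have hVR := le_extender hV (hom_apply_mem h1)
  have hfR : f ∈ extender S V (V.subtype.comp (e : MulAut V).toMonoidHom) := by
    rw [mem_extender_iff]
    exact ⟨T_le_S c hf, T_le_norm c hf, f, T_le_S c hf, fun y hy => he y⟩
  set g1 := ψ ⟨f, hfR⟩ with hg1
  have hg1S : g1 ∈ S := hom_apply_mem hψ _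
  have hu0 : f⁻¹ * g1 ∈ V := by
    have h3 : f⁻¹ * g1 ∈ centralizerIn S V := by
      refine ⟨S.mul_mem (S.inv_mem (T_le_S c hf)) hg1S, Subgroup.mem_centralizer_iff.2 fun v hv => ?_⟩
      obtain ⟨v', hv'⟩ := (e : MulAut V).surjective ⟨v, hv⟩
      have h4 := he v'
      rw [hv'] at h4
      have h5 := hψe (f * v' * f⁻¹) (conjV c hf v'.2) (hVR (conjV c hf v'.2))
      have h6 : ψ ⟨f * v' * f⁻¹, hVR (conjV c hf v'.2)⟩ = g1 * v * g1⁻¹ := by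
        have h7 : (⟨f * v' * f⁻¹, hVR (conjV c hf v'.2)⟩ : extender S V (V.subtype.comp (e : MulAut V).toMonoidHom)) =
            ⟨f, hfR⟩ * ⟨v', hVR v'.2⟩ * ⟨f, hfR⟩⁻¹ := rfl
        rw [h7, map_mul, map_mul, map_inv, ← hg1, hψe v' v'.2 (hVR v'.2)]
        show g1 * (((e : MulAut V) v' : V) : Ω) * g1⁻¹ = _
        rw [hv']
      have h8 : g1 * v * g1⁻¹ = f * v * f⁻¹ := by
        rw [← h6, h5]
        exact h4
      have h9 : g1 * v = f * v * f⁻¹ * g1 := by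
        rw [← h8]
        group
      rw [mul_assoc, h9]
      group
    rwa [c.cent] at h3
  have hfi : f⁻¹ = f := inv_eq_of_mul_eq_one_left (by rw [← pow_two]; exact hf2)
  have hg2 : g1 * g1 = 1 := by
    rw [hg1, ← map_mul]
    have h7 : (⟨f, hfR⟩ * ⟨f, hfR⟩ : extender S V (V.subtype.comp (e : MulAut V).toMonoidHom)) = 1 := by
      apply Subtype.ext
      show f * f = 1
      rw [← pow_two]
      exact hf2
    rw [h7, map_one]
  have hfu0 : f * (f⁻¹ * g1) * f⁻¹ = f⁻¹ * g1 := by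
    have h3 : (f⁻¹ * g1)⁻¹ = f⁻¹ * g1 := V_inv c _ hu0
    have h4 : g1⁻¹ = g1 := inv_eq_of_mul_eq_one_left hg2
    rw [mul_inv_rev, inv_inv, h4] at h3
    rw [← h3]
    have h5 : f * (g1 * f) * f⁻¹ = f * g1 := by group
    rw [h5, h3, hfi]
  obtain ⟨u, hu, hu1⟩ := free_1V hS d typ hf hf0 hf2 hu0 hfu0
  obtain ⟨χ, hχ, hχe⟩ := exists_comp hψ (F.conj_mem (P := S) (g := u⁻¹) le_rfl (S.inv_mem (hV hu)))
    (fun y => hom_apply_mem hψ y)
  refine ⟨_, χ, hχ, hVR, fun v hv hR => ?_, hfR, ?_⟩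
  · rw [hχe]
    show u⁻¹ * ψ ⟨v, hR⟩ * u⁻¹⁻¹ = _
    rw [hψe v hv hR]
    show u⁻¹ * (((e : MulAut V) ⟨v, hv⟩ : V) : Ω) * u⁻¹⁻¹ = _
    rw [V_comm c _ (V.inv_mem hu) _ ((e : MulAut V) ⟨v, hv⟩).2, mul_inv_cancel_right]
  · rw [hχe]
    show u⁻¹ * ψ ⟨f, hfR⟩ * u⁻¹⁻¹ = _
    rw [← hg1]
    have h3 : g1 = f * (f * u * f⁻¹ * u) := by
      rw [← hu1]
      group
    have h4 : f * f = 1 := by rw [← pow_two]; exact hf2
    have h5 : u * u = 1 := by rw [← pow_two]; exact c.el u hu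
    rw [h3, inv_inv]
    calc u⁻¹ * (f * (f * u * f⁻¹ * u)) * u = u⁻¹ * ((f * f) * u * f⁻¹ * (u * u)) := by group
      _ = f⁻¹ := by rw [h4, h5]; group
      _ = f := hfi

/-- the main step: moving elements of `C` out of `Z` -/
theorem step (hS : IsPGroup 2 S) (hF : F.IsSaturated 2) (d : Nrm c)
    (typ : fixS V c.E = ⊥ ∨ (Nat.card (fixS V c.E) = Fintype.card K ∧ comS V c.E = V)) {g f : Ω} (hg : g ∈ S)
    (hfS : f ∈ S)
    (hf : g⁻¹ * f * g ∈ T) (hf0 : g⁻¹ * f * g ∉ V ⊔ cj x V) (hf2 : (g⁻¹ * f * g) ^ 2 = 1) {C : Subgroup Ω}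
    (hC : C ≤ centralizerIn S (Subgroup.zpowers f))
    (hinv : ∀ P : Subgroup Ω, P ≤ C → ∀ φ ∈ F.centralizerHom (Subgroup.zpowers f) P, ∀ y : P, φ y ∈ C)
    {w : Ω} (hw : w ∈ C) (hwV : g⁻¹ * w * g ∈ V) (hwD : g⁻¹ * w * g ∉ fixS V c.E) :
    ∃ y ∈ C, g⁻¹ * y * g ∈ V ∧ g⁻¹ * y * g ∉ cj x V := by
  by_cases hwx : g⁻¹ * w * g ∈ cj x V
  swap
  · exact ⟨w, hw, hwV, hwx⟩
  have typ' : fixS V c.E = ⊥ ∨ comS V c.E = V := typ.imp id And.right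
  have hwf : f * w = w * f := by
    have h1 := Subgroup.mem_centralizer_iff.1 (hC hw).2 f (Subgroup.mem_zpowers f)
    exact h1
  have hfw : (g⁻¹ * f * g) * (g⁻¹ * w * g) * (g⁻¹ * f * g)⁻¹ = g⁻¹ * w * g := by
    have h1 : (g⁻¹ * f * g) * (g⁻¹ * w * g) * (g⁻¹ * f * g)⁻¹ = g⁻¹ * (f * w) * f⁻¹ * g := by group
    rw [h1, hwf]
    group
  obtain ⟨e, he, hex⟩ := exists_e hS d typ' hf hf0 hf2 ⟨hwV, hwx⟩ hwD hfw
  obtain ⟨R, χ, hχ, hVR, hχV, hfR, hχf⟩ := exists_ext hS hF d typ hf hf0 hf2 e he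
  -- the map on Q = ⟨w⟩⟨f⟩
  set W := Subgroup.zpowers w with hW
  set U := Subgroup.zpowers f with hU
  have hWS : W ≤ S := by
    rw [hW, Subgroup.zpowers_le]
    exact (hC hw).1
  have hUS : U ≤ S := by
    rw [hU, Subgroup.zpowers_le]
    exact hfS
  have hQS : W ⊔ U ≤ S := sup_le hWS hUS
  have hQR : ∀ q ∈ W ⊔ U, g⁻¹ * q * g ∈ R := by
    have h1 : W ⊔ U ≤ R.comap (MulAut.conj g⁻¹).toMonoidHom := by
      refine sup_le ?_ ?_
      · rw [hW, Subgroup.zpowers_le]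
        show g⁻¹ * w * g⁻¹⁻¹ ∈ R
        rw [inv_inv]
        exact hVR hwV
      · rw [hU, Subgroup.zpowers_le]
        show g⁻¹ * f * g⁻¹⁻¹ ∈ R
        rw [inv_inv]
        exact hfR
    intro q hq
    have h2 : g⁻¹ * q * g⁻¹⁻¹ ∈ R := h1 hq
    rwa [inv_inv] at h2
  obtain ⟨χ1, hχ1, hχ1e⟩ := exists_comp (F.conj_mem (P := W ⊔ U) (g := g⁻¹) hQS (S.inv_mem hg)) hχ
    (fun q => by
      show g⁻¹ * (q : Ω) * g⁻¹⁻¹ ∈ R
      rw [inv_inv]
      exact hQR q q.2)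
  obtain ⟨χ2, hχ2, hχ2e⟩ := exists_comp hχ1 (F.conj_mem (P := S) (g := g) le_rfl hg)
    (fun y => hom_apply_mem hχ1 y)
  have hval : ∀ (q : Ω) (hq : q ∈ W ⊔ U) (hR : g⁻¹ * q * g ∈ R), χ2 ⟨q, hq⟩ = g * χ ⟨g⁻¹ * q * g, hR⟩ * g⁻¹ := by
    intro q hq hR
    rw [hχ2e]
    show g * χ1 ⟨q, hq⟩ * g⁻¹ = _
    rw [hχ1e]
    congr 3
    apply Subtype.ext
    show g⁻¹ * q * g⁻¹⁻¹ = g⁻¹ * q * g
    rw [inv_inv]
  have hfU : f ∈ W ⊔ U := Subgroup.mem_sup_right (Subgroup.mem_zpowers f)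
  have hwW : w ∈ W ⊔ U := Subgroup.mem_sup_left (Subgroup.mem_zpowers w)
  have hχ2f : χ2 ⟨f, hfU⟩ = f := by
    rw [hval f hfU hfR, hχf]
    group
  have hχ2w : χ2 ⟨w, hwW⟩ = g * (((e : MulAut V) ⟨g⁻¹ * w * g, hwV⟩ : V) : Ω) * g⁻¹ := by
    rw [hval w hwW (hVR hwV), hχV _ hwV]
  have hWC : W ≤ C := by
    rw [hW, Subgroup.zpowers_le]
    exact hw
  have hmem : χ2.comp (Subgroup.inclusion le_sup_left) ∈ F.centralizerHom U W := by
    refine ⟨restrict_mem hχ2 le_sup_left, hWC.trans hC, fun y => ⟨hom_apply_mem hχ2 _, ?_⟩, χ2, hχ2,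
      fun y => rfl, ?_⟩
    · refine Subgroup.mem_centralizer_iff.2 fun z hz => ?_
      obtain ⟨k, rfl⟩ := Subgroup.mem_zpowers_iff.1 hz
      have h1 : f * χ2 (Subgroup.inclusion le_sup_left y) = χ2 (Subgroup.inclusion le_sup_left y) * f := by
        conv_lhs => rw [← hχ2f]
        conv_rhs => rw [← hχ2f]
        rw [← map_mul, ← map_mul]
        congr 1
        apply Subtype.ext
        show f * (y : Ω) = y * f
        have h2 := Subgroup.mem_centralizer_iff.1 (hC (hWC y.2)).2 f (Subgroup.mem_zpowers f)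
        exact h2
      exact (Commute.zpow_left h1 k)
    · rintro ⟨z, hz⟩
      obtain ⟨k, rfl⟩ := Subgroup.mem_zpowers_iff.1 hz
      show χ2 ⟨f ^ k, _⟩ = f ^ k
      have h1 : (⟨f ^ k, Subgroup.mem_sup_right hz⟩ : (W ⊔ U : Subgroup Ω)) = ⟨f, hfU⟩ ^ k := rfl
      have h2 : χ2 ⟨f ^ k, Subgroup.mem_sup_right hz⟩ = f ^ k := by
        rw [h1, map_zpow, hχ2f]
      exact h2
  have hy := hinv W hWC _ hmem ⟨w, Subgroup.mem_zpowers w⟩
  have hyv : (χ2.comp (Subgroup.inclusion le_sup_left)) ⟨w, Subgroup.mem_zpowers w⟩ =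
      g * (((e : MulAut V) ⟨g⁻¹ * w * g, hwV⟩ : V) : Ω) * g⁻¹ := hχ2w
  rw [hyv] at hy
  refine ⟨_, hy, ?_, ?_⟩
  · have h1 : g⁻¹ * (g * (((e : MulAut V) ⟨g⁻¹ * w * g, hwV⟩ : V) : Ω) * g⁻¹) * g =
        (((e : MulAut V) ⟨g⁻¹ * w * g, hwV⟩ : V) : Ω) := by group
    rw [h1]
    exact ((e : MulAut V) ⟨g⁻¹ * w * g, hwV⟩).2
  · have h1 : g⁻¹ * (g * (((e : MulAut V) ⟨g⁻¹ * w * g, hwV⟩ : V) : Ω) * g⁻¹) * g =
        (((e : MulAut V) ⟨g⁻¹ * w * g, hwV⟩ : V) : Ω) := by group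
    rw [h1]
    exact hex

/-- commutators of elements of `V \ Z` with elements of `V^x \ Z` are not in `D` -/
theorem comm_not_D (d : Nrm c) (typ : fixS V c.E = ⊥ ∨ comS V c.E = V) {p r : Ω} (hp : p ∈ V)
    (hpx : p ∉ cj x V) (hr : r ∈ cj x V) (hrV : r ∉ V) : p * r * p⁻¹ * r⁻¹ ∉ fixS V c.E := by
  intro h
  obtain ⟨b, hb⟩ := d.A_act r hr
  have hb0 : b ≠ 0 := by
    intro h0
    apply hrV
    apply triv_mem d typ (Vx_le_T c hr)
    intro v hv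
    rw [hb v hv, h0, act_U]
    ext i; fin_cases i <;> simp
  have hrp : r * p⁻¹ * r⁻¹ ∈ V := conjV c (Vx_le_T c hr) (V.inv_mem hp)
  have h1 : p * r * p⁻¹ * r⁻¹ = p * (r * p⁻¹ * r⁻¹) := by group
  rw [h1] at h
  have h2 := (d.P_ker _ (V.mul_mem hp hrp)).2 h
  rw [d.P_mul _ hp _ hrp, hb _ (V.inv_mem hp), P_inv d hp, act_U] at h2
  have h3 := congrFun h2 0
  simp at h3
  rcases h3 with h3 | h3
  · exact hb0 h3
  · exact hpx ((d.P_Z _ hp).1 h3)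

theorem comm_not_Dx (d : Nrm c) (typ : fixS V c.E = ⊥ ∨ comS V c.E = V) {p r : Ω} (hp : p ∈ V)
    (hpx : p ∉ cj x V) (hr : r ∈ cj x V) (hrV : r ∉ V) : x⁻¹ * (p * r * p⁻¹ * r⁻¹) * x ∉ fixS V c.E := by
  intro h
  have h1 : (x⁻¹ * (p * r * p⁻¹ * r⁻¹) * x)⁻¹ =
      (x⁻¹ * r * x) * (x⁻¹ * p * x) * (x⁻¹ * r * x)⁻¹ * (x⁻¹ * p * x)⁻¹ := by group
  have h2 := (fixS V c.E).inv_mem h
  rw [h1] at h2
  refine comm_not_D d typ (mem_cj.1 hr) ?_ (conj_x_mem' c hp) ?_ h2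
  · intro h3
    have h4 := conj_x_mem c h3
    have h5 : x * (x⁻¹ * r * x) * x⁻¹ = r := by group
    rw [h5] at h4
    exact hrV h4
  · intro h3
    exact hpx (mem_cj.2 h3)

end

/-- T10: no field automorphisms in `T` -/
theorem stField (hch : StChain.{u}) : StField.{u} := by
  intro Ω _ S _ hS F hF hmin K _ _ V T x c hq hnor typ
  by_contra hT
  obtain ⟨d⟩ := exists_nrm c
  have typ' : fixS V c.E = ⊥ ∨ comS V c.E = V := typ.imp id And.right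
  obtain ⟨f, hf, hf0, hf2⟩ := exists_invol hS d typ hT
  have hfS := T_le_S c hf
  have hf1 : f ≠ 1 := by
    rintro rfl
    exact hf0 (Subgroup.one_mem _)
  obtain ⟨n, C, hC0, hCn, hmono, hcom, hinv⟩ := hch hS F hF hmin (Subgroup.zpowers f)
    (by rw [Subgroup.zpowers_le]; exact hfS) (by rwa [Ne, Subgroup.zpowers_eq_bot])
  classical
  obtain ⟨v, hv, hvx, hfv⟩ := exists_cent hS d typ' hf hf0 hf2
  have hcomm : ∀ {r : Ω}, r ∈ S → f * r * f⁻¹ = r → r ∈ C n := by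
    intro r hr h
    rw [hCn]
    refine ⟨hr, Subgroup.mem_centralizer_iff.2 fun z hz => ?_⟩
    obtain ⟨k, rfl⟩ := Subgroup.mem_zpowers_iff.1 hz
    have h1 : Commute f r := mul_inv_eq_iff_eq_mul.1 h
    exact h1.zpow_left k
  have hex : ∃ i, ¬ (C i ⊓ V ≤ fixS V c.E) := by
    refine ⟨n, fun h => ?_⟩
    exact hvx (D_le_Z d (h ⟨hcomm (c.V_le hv) hfv, hv⟩)).2
  have hi1 := Nat.find_spec hex
  have hi0 : Nat.find hex ≠ 0 := by
    intro h0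
    rw [h0, hC0, bot_inf_eq] at hi1
    exact hi1 bot_le
  obtain ⟨m, hm⟩ := Nat.exists_eq_succ_of_ne_zero hi0
  have hm1 : C m ⊓ V ≤ fixS V c.E := not_not.1 (Nat.find_min hex (m := m) (by omega))
  rw [hm] at hi1
  have hmn : m.succ ≤ n := by
    rw [← hm]
    exact Nat.find_min' hex (fun h => hvx (D_le_Z d (h ⟨hcomm (c.V_le hv) hfv, hv⟩)).2)
  have hCC : C m.succ ≤ centralizerIn S (Subgroup.zpowers f) := by
    rw [← hCn]
    exact hmono hmn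
  obtain ⟨w, hw, hwD⟩ := SetLike.not_le_iff_exists.1 hi1
  -- first step
  obtain ⟨y, hy, hyV, hyx⟩ := step hS hF d typ (g := 1) S.one_mem hfS
    (by simpa using hf) (by simpa using hf0) (by simpa using hf2) hCC (hinv m.succ) (w := w) hw.1
    (by simpa using hw.2) (by simpa using hwD)
  simp only [inv_one, one_mul, mul_one] at hyV hyx
  -- an element of V^x
  obtain ⟨hf', hf0'⟩ := out_conj' (c := c) hf hf0
  have hf2' : (x⁻¹ * f * x) ^ 2 = 1 := by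
    have : (x⁻¹ * f * x) ^ 2 = x⁻¹ * f ^ 2 * x := by
      rw [pow_two, pow_two]
      group
    rw [this, hf2]
    group
  obtain ⟨v0, hv0, hv0x, hfv0⟩ := exists_cent hS d typ' hf' hf0' hf2'
  have hv' : x * v0 * x⁻¹ ∈ cj x V := conj_mem_cj hv0
  have hv'V : x * v0 * x⁻¹ ∉ V := by
    intro h
    have h1 := conj_x_mem' c h
    have h2 : x⁻¹ * (x * v0 * x⁻¹) * x = v0 := by group
    rw [h2] at h1
    exact hv0x h1
  have hfv' : f * (x * v0 * x⁻¹) * f⁻¹ = x * v0 * x⁻¹ := by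
    have h1 : f * (x * v0 * x⁻¹) * f⁻¹ = x * ((x⁻¹ * f * x) * v0 * (x⁻¹ * f * x)⁻¹) * x⁻¹ := by group
    rw [h1, hfv0]
  have hv'n : x * v0 * x⁻¹ ∈ C n := hcomm (T_le_S c (Vx_le_T c hv')) hfv'
  -- conjugation by elements of C_S(f) preserves C (m+1)
  have hconj : ∀ r ∈ C n, ∀ z ∈ C m.succ, r * z * r⁻¹ ∈ C m.succ := by
    intro r hr z hz
    rw [hCn] at hr
    have hmem : conjHom (C m.succ) r ∈ F.centralizerHom (Subgroup.zpowers f) (C m.succ) := by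
      have hCS : C m.succ ≤ S := hCC.trans inf_le_left
      have hUS : Subgroup.zpowers f ≤ S := by rw [Subgroup.zpowers_le]; exact hfS
      refine ⟨F.conj_mem hCS hr.1, hCC, fun y => ?_, conjHom _ r, F.conj_mem (sup_le hCS hUS) hr.1,
        fun y => rfl, fun y => ?_⟩
      · show r * (y : Ω) * r⁻¹ ∈ centralizerIn S (Subgroup.zpowers f)
        exact (centralizerIn S (Subgroup.zpowers f)).mul_mem
          ((centralizerIn S (Subgroup.zpowers f)).mul_mem hr (hCC y.2))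
          ((centralizerIn S (Subgroup.zpowers f)).inv_mem hr)
      · show r * (y : Ω) * r⁻¹ = y
        have h1 := Subgroup.mem_centralizer_iff.1 hr.2 y y.2
        rw [← h1, mul_inv_cancel_right]
    exact hinv m.succ _ le_rfl _ hmem ⟨z, hz⟩
  have hw' : y * (x * v0 * x⁻¹) * y⁻¹ * (x * v0 * x⁻¹)⁻¹ ∈ C m.succ := by
    have h1 : y * (x * v0 * x⁻¹) * y⁻¹ * (x * v0 * x⁻¹)⁻¹ =
        y * ((x * v0 * x⁻¹) * y⁻¹ * (x * v0 * x⁻¹)⁻¹) := by group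
    rw [h1]
    exact (C m.succ).mul_mem hy (hconj _ hv'n _ ((C m.succ).inv_mem hy))
  have hw'x : y * (x * v0 * x⁻¹) * y⁻¹ * (x * v0 * x⁻¹)⁻¹ ∈ cj x V :=
    (cj x V).mul_mem (conjVx c (V_le_T c hyV) hv') ((cj x V).inv_mem hv')
  obtain ⟨y', hy', hy'V, hy'x⟩ := step hS hF d typ (g := x) c.x_mem hfS hf' hf0' hf2' hCC (hinv m.succ)
    (w := y * (x * v0 * x⁻¹) * y⁻¹ * (x * v0 * x⁻¹)⁻¹) hw' (mem_cj.1 hw'x)
    (comm_not_Dx d typ' hyV hyx hv' hv'V)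
  have hy'1 : y' ∈ cj x V := mem_cj.2 hy'V
  have hy'2 : y' ∉ V := fun h => hy'x (conj_x_mem' c h)
  apply comm_not_D d typ' hyV hyx hy'1 hy'2
  apply hm1
  refine ⟨?_, ?_⟩
  · apply hcom m
    have h1 : ⁅y, y'⁆ ∈ ⁅C (m + 1), C (m + 1)⁆ := Subgroup.commutator_mem_commutator hy hy'
    rw [commutatorElement_def] at h1
    exact h1
  · have h1 : y * y' * y⁻¹ * y'⁻¹ = y * (y' * y⁻¹ * y'⁻¹) := by group
    rw [h1]
    exact V.mul_mem hyV (conjV c (Vx_le_T c hy'1) (V.inv_mem hyV))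

end Cfsg.Agent.H302.Hen
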