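import Cfsg.Agent.H302.Hen.Lin
import Cfsg.Agent.H756.HM.Stmts
import Cfsg.Agent.H802.FusNorm

/-!
# Coordinates for the main configuration of S5175
-/

set_option autoImplicit false

namespace Cfsg.Agent.H302.Hen

open Cfsg Cfsg.FusionSystem Cfsg.Agent.H756.HM Cfsg.Agent.H802

variable {Ω : Type*} [Group Ω]

/-! ### Generalities -/

theorem mem_cj {x : Ω} {V : Subgroup Ω} {g : Ω} : g ∈ cj x V ↔ x⁻¹ * g * x ∈ V := by
  constructor
  · rintro ⟨v, hv, rfl⟩
    have : x⁻¹ * (MulAut.conj x).toMonoidHom v * x = v := by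
      show x⁻¹ * (x * v * x⁻¹) * x = v
      group
    rw [this]
    exact hv
  · intro h
    refine ⟨x⁻¹ * g * x, h, ?_⟩
    show x * (x⁻¹ * g * x) * x⁻¹ = g
    group

theorem conj_mem_cj {x : Ω} {V : Subgroup Ω} {g : Ω} (h : g ∈ V) : x * g * x⁻¹ ∈ cj x V :=
  ⟨g, h, rfl⟩

theorem card_cj (x : Ω) (V : Subgroup Ω) : Nat.card (cj x V) = Nat.card V :=
  Subgroup.card_map_of_injective (MulAut.conj x).injective

theorem conj_mem_of_norm {V : Subgroup Ω} {g v : Ω} (hg : g ∈ Subgroup.normalizer (V : Set Ω)) (hv : v ∈ V) :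
    g * v * g⁻¹ ∈ V := (Subgroup.mem_normalizer_iff.1 hg v).1 hv

theorem conj_mem_of_norm' {V : Subgroup Ω} {g v : Ω} (hg : g ∈ Subgroup.normalizer (V : Set Ω)) (hv : v ∈ V) :
    g⁻¹ * v * g ∈ V := by
  have := (Subgroup.mem_normalizer_iff.1 ((Subgroup.normalizer (V : Set Ω)).inv_mem hg) v).1 hv
  simpa using this

/-- `AB` for `B ≤ N(A)` -/
theorem mem_sup_norm {A B : Subgroup Ω} (h : B ≤ Subgroup.normalizer (A : Set Ω)) {g : Ω} :
    g ∈ A ⊔ B ↔ ∃ a ∈ A, ∃ b ∈ B, a * b = g := by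
  constructor
  · intro hg
    rw [Subgroup.sup_eq_closure] at hg
    refine Subgroup.closure_induction (p := fun g _ => ∃ a ∈ A, ∃ b ∈ B, a * b = g) ?_ ?_ ?_ ?_ hg
    · rintro y (hy | hy)
      · exact ⟨y, hy, 1, B.one_mem, mul_one y⟩
      · exact ⟨1, A.one_mem, y, hy, one_mul y⟩
    · exact ⟨1, A.one_mem, 1, B.one_mem, mul_one 1⟩
    · rintro _ _ _ _ ⟨a, ha, b, hb, rfl⟩ ⟨a', ha', b', hb', rfl⟩
      refine ⟨a * (b * a' * b⁻¹), A.mul_mem ha (conj_mem_of_norm (h hb) ha'), b * b', B.mul_mem hb hb', ?_⟩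
      group
    · rintro _ _ ⟨a, ha, b, hb, rfl⟩
      refine ⟨b⁻¹ * a⁻¹ * b, conj_mem_of_norm' (h hb) (A.inv_mem ha), b⁻¹, B.inv_mem hb, ?_⟩
      group
  · rintro ⟨a, ha, b, hb, rfl⟩
    exact Subgroup.mul_mem_sup ha hb

theorem card_eq_of_surj {G H : Type*} [Group G] [Group H] (f : G →* H) (hf : Function.Surjective f) :
    Nat.card G = Nat.card f.ker * Nat.card H := by
  rw [← Subgroup.card_mul_index f.ker, Subgroup.index_ker, MonoidHom.range_eq_top.2 hf, Subgroup.card_top]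

/-! ### Consequences of `Conf` -/

section
variable {S : Subgroup Ω} {F : FusionSystem S} {K : Type} [Field K] [Fintype K] {V T : Subgroup Ω} {x : Ω}

theorem V_le_T (c : Conf F K V T x) : V ≤ T := by
  rw [← c.nor]
  exact le_inf c.V_le Subgroup.le_normalizer

theorem T_le_S (c : Conf F K V T x) : T ≤ S := by
  rw [← c.nor]
  exact inf_le_left

theorem T_le_norm (c : Conf F K V T x) : T ≤ Subgroup.normalizer (V : Set Ω) := by
  conv_lhs => rw [← c.nor]
  exact inf_le_right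

theorem Vx_le_T (c : Conf F K V T x) : cj x V ≤ T := by
  rintro _ ⟨v, hv, rfl⟩
  exact conj_mem_of_norm c.x_nor (V_le_T c hv)

theorem V_comm (c : Conf F K V T x) : ∀ u ∈ V, ∀ v ∈ V, u * v = v * u := by
  intro u hu v hv
  have h1 := c.el (u * v) (V.mul_mem hu hv)
  have h2 := c.el u hu
  have h3 := c.el v hv
  have hu' : u⁻¹ = u := inv_eq_of_mul_eq_one_left (by rw [← pow_two]; exact h2)
  have hv' : v⁻¹ = v := inv_eq_of_mul_eq_one_left (by rw [← pow_two]; exact h3)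
  have h4 : (u * v)⁻¹ = u * v := inv_eq_of_mul_eq_one_left (by rw [← pow_two]; exact h1)
  rw [← h4, mul_inv_rev, hu', hv']

theorem V_inv (c : Conf F K V T x) : ∀ u ∈ V, u⁻¹ = u := fun u hu =>
  inv_eq_of_mul_eq_one_left (by rw [← pow_two]; exact c.el u hu)

theorem Vx_comm (c : Conf F K V T x) : ∀ u ∈ cj x V, ∀ v ∈ cj x V, u * v = v * u := by
  rintro _ ⟨u, hu, rfl⟩ _ ⟨v, hv, rfl⟩
  rw [← map_mul, ← map_mul, V_comm c u hu v hv]

/-- `x` swaps `V` and `V^x` -/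
theorem cj_cj (c : Conf F K V T x) : cj x (cj x V) = V := by
  ext g
  rw [mem_cj, mem_cj]
  have h1 : x⁻¹ * (x⁻¹ * g * x) * x = (x ^ 2)⁻¹ * g * x ^ 2 := by
    rw [pow_two]
    group
  rw [h1]
  have h2 : x ^ 2 ∈ Subgroup.normalizer (V : Set Ω) := T_le_norm c c.x_sq
  constructor
  · intro h
    have := conj_mem_of_norm h2 h
    have h3 : x ^ 2 * ((x ^ 2)⁻¹ * g * x ^ 2) * (x ^ 2)⁻¹ = g := by group
    rwa [h3] at this
  · intro h
    exact conj_mem_of_norm' h2 h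

theorem conj_x_mem (c : Conf F K V T x) {g : Ω} (hg : g ∈ cj x V) : x * g * x⁻¹ ∈ V := by
  have := conj_mem_cj (x := x) hg
  rwa [cj_cj c] at this

theorem conj_x_mem' (c : Conf F K V T x) {g : Ω} (hg : g ∈ V) : x⁻¹ * g * x ∈ cj x V := by
  have h1 : g ∈ cj x (cj x V) := by rw [cj_cj c]; exact hg
  exact mem_cj.1 h1

/-- the automorphism of `V` induced by `t` -/
theorem exists_aut_T (c : Conf F K V T x) {t : Ω} (ht : t ∈ T) :
    ∃ α ∈ autInducedBy T V, ∀ v : V, ((α v : V) : Ω) = t * v * t⁻¹ := by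
  obtain ⟨α, hα⟩ := exists_conjAut (T_le_norm c ht)
  exact ⟨α, (mem_autInducedBy_iff T V α).2 ⟨t, ht, hα⟩, hα⟩

theorem exists_aut_A (c : Conf F K V T x) {a : Ω} (ha : a ∈ cj x V) :
    ∃ e : c.E, ∀ v : V, (((e : MulAut V) v : V) : Ω) = a * v * a⁻¹ := by
  obtain ⟨α, hα⟩ := exists_conjAut (T_le_norm c (Vx_le_T c ha))
  exact ⟨⟨α, c.A_le ((mem_autInducedBy_iff _ V α).2 ⟨a, ha, hα⟩)⟩, hα⟩

theorem mem_fixS {E : Subgroup (MulAut V)} {v : Ω} :
    v ∈ fixS V E ↔ ∃ h : v ∈ V, ∀ e ∈ E, e ⟨v, h⟩ = ⟨v, h⟩ := by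
  constructor
  · rintro ⟨w, hw, rfl⟩
    exact ⟨w.2, hw⟩
  · rintro ⟨h, h1⟩
    exact ⟨⟨v, h⟩, h1, rfl⟩

theorem fixS_le (E : Subgroup (MulAut V)) : fixS V E ≤ V := by
  intro v hv
  exact (mem_fixS.1 hv).1

/-- the action of `t⁻¹ e t` -/
theorem conj_E (c : Conf F K V T x) {t : Ω} (ht : t ∈ T) (e : c.E) :
    ∃ e' : c.E, ∀ (v : V) (h : t * (v : Ω) * t⁻¹ ∈ V),
      (((e : MulAut V) ⟨t * v * t⁻¹, h⟩ : V) : Ω) = t * (((e' : MulAut V) v : V) : Ω) * t⁻¹ := by
  obtain ⟨α, hα, h1⟩ := exists_aut_T c ht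
  have h2 := c.T_nor α⁻¹ (Subgroup.inv_mem _ hα) e e.2
  refine ⟨⟨_, h2⟩, fun v h => ?_⟩
  refine Eq.trans ?_ (h1 _)
  have h3 : (⟨t * v * t⁻¹, h⟩ : V) = α v := Subtype.ext (h1 v).symm
  rw [h3]
  congr 1
  show (e : MulAut V) (α v) = α ((α⁻¹ * (e : MulAut V) * (α⁻¹)⁻¹) v)
  rw [inv_inv, MulAut.mul_apply, MulAut.mul_apply]
  exact (α.apply_symm_apply _).symm

theorem D_conj (c : Conf F K V T x) {t d : Ω} (ht : t ∈ T) (hd : d ∈ fixS V c.E) :
    t * d * t⁻¹ ∈ fixS V c.E := by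
  obtain ⟨h, h1⟩ := mem_fixS.1 hd
  have h2 : t * d * t⁻¹ ∈ V := conj_mem_of_norm (T_le_norm c ht) h
  refine mem_fixS.2 ⟨h2, fun e he => ?_⟩
  obtain ⟨e', he'⟩ := conj_E c ht ⟨e, he⟩
  apply Subtype.ext
  have h3 := he' ⟨d, h⟩ h2
  rw [h1 _ e'.2] at h3
  exact h3

theorem card_Z [Finite S] (c : Conf F K V T x) :
    Nat.card V = Fintype.card K * Nat.card (V ⊓ cj x V : Subgroup Ω) := by
  have h1 := card_autInducedBy_mul (cj x V) V
  have h2 : normalizerIn (cj x V) V = cj x V :=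
    inf_eq_left.2 ((Vx_le_T c).trans (T_le_norm c))
  have h3 : centralizerIn (cj x V) V = V ⊓ cj x V := by
    ext g
    constructor
    · rintro ⟨h4, h5⟩
      refine ⟨?_, h4⟩
      have h6 : g ∈ centralizerIn S V := ⟨T_le_S c (Vx_le_T c h4), h5⟩
      rwa [c.cent] at h6
    · rintro ⟨h4, h5⟩
      refine ⟨h5, Subgroup.mem_centralizer_iff.2 fun v hv => V_comm c v hv g h4⟩
  rw [h2, h3, c.A_card, card_cj] at h1
  exact h1.symm

theorem card_D [Finite S] (c : Conf F K V T x) :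
    Nat.card V = Nat.card (fixS V c.E) * (Fintype.card K * Fintype.card K) := by
  have h1 := card_eq_of_surj c.ψ c.ψ_surj
  have h2 : Nat.card (Multiplicative (Fin 2 → K)) = Fintype.card K * Fintype.card K := by
    rw [Nat.card_congr (Multiplicative.toAdd)]
    simp [Nat.card_eq_fintype_card, pow_two]
  have h3 : Nat.card c.ψ.ker = Nat.card (fixS V c.E) := by
    have h4 : (c.ψ.ker).map V.subtype = fixS V c.E := by
      ext g
      constructor
      · rintro ⟨v, hv, rfl⟩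
        exact (c.ψ_ker v).1 hv
      · intro hg
        obtain ⟨h, -⟩ := mem_fixS.1 hg
        exact ⟨⟨g, h⟩, (c.ψ_ker ⟨g, h⟩).2 hg, rfl⟩
    rw [← h4]
    exact (Subgroup.card_map_of_injective V.subtype_injective).symm
  rw [h1, h2, h3]

theorem exists_z [Finite S] (c : Conf F K V T x) : ∃ z ∈ V ⊓ cj x V, z ∉ fixS V c.E := by
  by_contra hcon
  push Not at hcon
  have hfin : Finite V := finite_of_le c.V_le
  have hfin2 : Finite (fixS V c.E) := finite_of_le ((fixS_le _).trans c.V_le)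
  have h1 := card_Z c
  have h2 := card_D c
  have h3 : Nat.card (V ⊓ cj x V : Subgroup Ω) ≤ Nat.card (fixS V c.E) :=
    Nat.card_le_card_of_injective (Subgroup.inclusion (fun z hz => hcon z hz))
      (Subgroup.inclusion_injective _)
  have h4 : 1 < Fintype.card K := Fintype.one_lt_card
  have h5 : 0 < Nat.card (fixS V c.E) := Nat.card_pos
  nlinarith [Nat.mul_le_mul_left (Fintype.card K) h3, Nat.mul_lt_mul_of_pos_left h4 (Nat.mul_pos h5 (by omega : 0 < Fintype.card K))]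

end

/-! ### Normalized coordinates -/

/-- normalized coordinates for a configuration -/
structure Nrm {S : Subgroup Ω} {F : FusionSystem S} {K : Type} [Field K] [Fintype K] {V T : Subgroup Ω} {x : Ω}
    (c : Conf F K V T x) where
  P : Ω → Fin 2 → K
  P_mul : ∀ u ∈ V, ∀ v ∈ V, P (u * v) = P u + P v
  P_surj : ∀ a, ∃ v ∈ V, P v = a
  P_ker : ∀ v ∈ V, P v = 0 ↔ v ∈ fixS V c.E
  P_Z : ∀ v ∈ V, P v 1 = 0 ↔ v ∈ cj x V
  ρ : c.E ≃* Matrix.SpecialLinearGroup (Fin 2) K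
  P_E : ∀ (e : c.E) (v : V), P (((e : MulAut V) v : V) : Ω) = act (ρ e) (P v)
  A_act : ∀ a ∈ cj x V, ∃ b, ∀ v ∈ V, P (a * v * a⁻¹) = act (U b) (P v)
  A_surj : ∀ b, ∃ a ∈ cj x V, ∀ v ∈ V, P (a * v * a⁻¹) = act (U b) (P v)

theorem exists_nrm {S : Subgroup Ω} [Finite S] {F : FusionSystem S} {K : Type} [Field K] [Fintype K]
    {V T : Subgroup Ω} {x : Ω} (c : Conf F K V T x) : Nonempty (Nrm c) := by
  classical
  obtain ⟨z, hz, hzD⟩ := exists_z c
  have hfinV : Finite V := finite_of_le c.V_le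
  set w0 : Fin 2 → K := Multiplicative.toAdd (c.ψ ⟨z, hz.1⟩) with hw0
  have hw0n : w0 ≠ 0 := by
    intro h0
    apply hzD
    have h1 : c.ψ ⟨z, hz.1⟩ = 1 := Multiplicative.toAdd.injective h0
    exact (c.ψ_ker ⟨z, hz.1⟩).1 h1
  obtain ⟨N, hN⟩ := exists_to_vec hw0n
  have hNi : ∀ u, act N⁻¹ (act N u) = u := fun u => by rw [← act_mul, inv_mul_cancel, act_one]
  have hNi' : ∀ u, act N (act N⁻¹ u) = u := fun u => by rw [← act_mul, mul_inv_cancel, act_one]
  -- coordinates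
  let P : Ω → Fin 2 → K := fun v => if h : v ∈ V then act N⁻¹ (Multiplicative.toAdd (c.ψ ⟨v, h⟩)) else 0
  have hP : ∀ (v : Ω) (h : v ∈ V), P v = act N⁻¹ (Multiplicative.toAdd (c.ψ ⟨v, h⟩)) := fun v h => dif_pos h
  let ρ : c.E ≃* Matrix.SpecialLinearGroup (Fin 2) K := c.ρ.trans (MulAut.conj N⁻¹)
  have hρ : ∀ e, ρ e = N⁻¹ * c.ρ e * N := fun e => by
    show N⁻¹ * c.ρ e * (N⁻¹)⁻¹ = _
    rw [inv_inv]
  have P_mul : ∀ u ∈ V, ∀ v ∈ V, P (u * v) = P u + P v := by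
    intro u hu v hv
    rw [hP _ (V.mul_mem hu hv), hP u hu, hP v hv, ← act_add]
    congr 1
    have : (⟨u * v, V.mul_mem hu hv⟩ : V) = ⟨u, hu⟩ * ⟨v, hv⟩ := rfl
    rw [this, map_mul, toAdd_mul]
  have P_surj : ∀ a, ∃ v ∈ V, P v = a := by
    intro a
    obtain ⟨v, hv⟩ := c.ψ_surj (Multiplicative.ofAdd (act N a))
    refine ⟨v, v.2, ?_⟩
    rw [hP _ v.2]
    have : c.ψ ⟨v, v.2⟩ = Multiplicative.ofAdd (act N a) := hv
    rw [this, toAdd_ofAdd, hNi]
  have P_ker : ∀ v ∈ V, P v = 0 ↔ v ∈ fixS V c.E := by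
    intro v hv
    rw [hP v hv]
    have h1 := c.ψ_ker ⟨v, hv⟩
    constructor
    · intro h
      apply h1.1
      have h2 := congrArg (act N) h
      rw [hNi', act_zero] at h2
      exact Multiplicative.toAdd.injective h2
    · intro h
      rw [h1.2 h, toAdd_one, act_zero]
  have P_E : ∀ (e : c.E) (v : V), P (((e : MulAut V) v : V) : Ω) = act (ρ e) (P v) := by
    intro e v
    rw [hP _ ((e : MulAut V) v).2, hP _ v.2, hρ, act_mul, act_mul, hNi']
    congr 1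
    exact c.ψ_eq e v
  have P_z : P z = ![1, 0] := by
    rw [hP z hz.1, ← hw0, ← hN, hNi]
  have A1 : ∀ a ∈ cj x V, ∀ e : c.E, (∀ v : V, (((e : MulAut V) v : V) : Ω) = a * v * a⁻¹) →
      ρ e = U ((ρ e : Matrix (Fin 2) (Fin 2) K) 0 1) := by
    intro a ha e he
    apply eq_U_of_fix
    have h1 := P_E e ⟨z, hz.1⟩
    have h2 : a * z * a⁻¹ = z := by
      rw [Vx_comm c a ha z hz.2, mul_inv_cancel_right]
    rw [he, h2, P_z] at h1
    exact h1.symm
  have A_act : ∀ a ∈ cj x V, ∃ b, ∀ v ∈ V, P (a * v * a⁻¹) = act (U b) (P v) := by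
    intro a ha
    obtain ⟨e, he⟩ := exists_aut_A c ha
    refine ⟨(ρ e : Matrix (Fin 2) (Fin 2) K) 0 1, fun v hv => ?_⟩
    rw [← A1 a ha e he]
    have h1 := he ⟨v, hv⟩
    rw [← P_E e ⟨v, hv⟩, h1]
  have A_surj : ∀ b, ∃ a ∈ cj x V, ∀ v ∈ V, P (a * v * a⁻¹) = act (U b) (P v) := by
    have hex : ∀ α : autInducedBy (cj x V) V, ∃ a ∈ cj x V, ∀ v : V, ((((α : MulAut V)) v : V) : Ω) =
        a * v * a⁻¹ := fun α => (mem_autInducedBy_iff _ V _).1 α.2
    let f : autInducedBy (cj x V) V → K := fun α => (ρ ⟨α, c.A_le α.2⟩ : Matrix (Fin 2) (Fin 2) K) 0 1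
    have hf : Function.Injective f := by
      intro α β hαβ
      obtain ⟨a, ha, h1⟩ := hex α
      obtain ⟨b, hb, h2⟩ := hex β
      have h3 := A1 a ha ⟨α, c.A_le α.2⟩ h1
      have h4 := A1 b hb ⟨β, c.A_le β.2⟩ h2
      have h5 : ρ ⟨α, c.A_le α.2⟩ = ρ ⟨β, c.A_le β.2⟩ := by
        rw [h3, h4]
        exact congrArg U hαβ
      have h6 := congrArg (fun e : c.E => (e : MulAut V)) (ρ.injective h5)
      exact Subtype.ext h6
    have hfinA : Finite (autInducedBy (cj x V) V) := Nat.finite_of_card_ne_zero (by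
      rw [c.A_card]
      exact Fintype.card_ne_zero)
    have hsurj : Function.Surjective f := by
      apply ((Function.Injective.bijective_of_nat_card_le hf ?_)).2
      rw [c.A_card, Nat.card_eq_fintype_card]
    intro b
    obtain ⟨α, hα⟩ := hsurj b
    obtain ⟨a, ha, h1⟩ := hex α
    refine ⟨a, ha, fun v hv => ?_⟩
    have h2 := P_E ⟨α, c.A_le α.2⟩ ⟨v, hv⟩
    have h3 := h1 ⟨v, hv⟩
    rw [A1 a ha ⟨α, c.A_le α.2⟩ h1] at h2
    rw [← hα, ← h3]
    exact h2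
  have P_Z : ∀ v ∈ V, P v 1 = 0 ↔ v ∈ cj x V := by
    have hZ1 : ∀ v ∈ V, v ∈ cj x V → P v 1 = 0 := by
      intro v hv hvx
      obtain ⟨a, ha, h1⟩ := A_surj 1
      have h2 := h1 v hv
      have h3 : a * v * a⁻¹ = v := by
        rw [Vx_comm c a ha v hvx, mul_inv_cancel_right]
      rw [h3, act_U] at h2
      have h4 := congrFun h2 0
      simp at h4
      exact h4
    let g : V →* Multiplicative K :=
      { toFun := fun v => Multiplicative.ofAdd (P v 1)
        map_one' := by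
          have h1 := P_mul 1 V.one_mem 1 V.one_mem
          rw [mul_one] at h1
          have h2 : P 1 = 0 := by
            have := add_left_cancel (h1.symm.trans (add_zero _).symm)
            exact this
          show Multiplicative.ofAdd (P ((1 : V) : Ω) 1) = 1
          rw [Subgroup.coe_one, h2]
          rfl
        map_mul' := fun u v => by
          show Multiplicative.ofAdd (P ((u * v : V) : Ω) 1) = _
          rw [Subgroup.coe_mul, P_mul u u.2 v v.2]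
          rfl }
    have hg : Function.Surjective g := by
      intro b
      obtain ⟨v, hv, h1⟩ := P_surj ![0, Multiplicative.toAdd b]
      refine ⟨⟨v, hv⟩, ?_⟩
      show Multiplicative.ofAdd (P v 1) = b
      rw [h1]
      simp
    have h1 := card_eq_of_surj g hg
    have h2 : Nat.card (Multiplicative K) = Fintype.card K := by
      rw [Nat.card_congr (Multiplicative.toAdd), Nat.card_eq_fintype_card]
    have h3 := card_Z c
    have h4 : (V ⊓ cj x V) ≤ (g.ker).map V.subtype := by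
      intro v hv
      refine ⟨⟨v, hv.1⟩, ?_, rfl⟩
      show Multiplicative.ofAdd (P v 1) = 1
      rw [hZ1 v hv.1 hv.2]
      rfl
    have h5 : Nat.card ((g.ker).map V.subtype) = Nat.card g.ker :=
      Subgroup.card_map_of_injective V.subtype_injective
    have hfin3 : Finite ((g.ker).map V.subtype) := by
      apply finite_of_le (S := S)
      rintro _ ⟨v, _, rfl⟩
      exact c.V_le v.2
    have h6 : V ⊓ cj x V = (g.ker).map V.subtype := by
      apply Subgroup.eq_of_le_of_card_ge h4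
      rw [h5]
      rw [h1, h2, mul_comm] at h3
      exact (Nat.eq_of_mul_eq_mul_left Fintype.card_pos h3).le
    intro v hv
    refine ⟨fun h0 => ?_, hZ1 v hv⟩
    have h7 : v ∈ (g.ker).map V.subtype := ⟨⟨v, hv⟩, by
      show Multiplicative.ofAdd (P v 1) = 1
      rw [h0]
      rfl, rfl⟩
    rw [← h6] at h7
    exact h7.2
  exact ⟨{ P := P, P_mul := P_mul, P_surj := P_surj, P_ker := P_ker, P_Z := P_Z, ρ := ρ, P_E := P_E,
           A_act := A_act, A_surj := A_surj }⟩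

end Cfsg.Agent.H302.Hen
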